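import Mathlib
import Cfsg.Prelude.Def_GeometricClasses
import Cfsg.Prelude.Def_LieClassical
import Cfsg.Agent.Lib.Helper71.Asch0
import Cfsg.Agent.Lib.Helper71.Asch8
import Cfsg.Agent.Lib.Helper1.SP8EADefs

/-! Project SPG (helper71), S5823, sub-project SP8-EA (architect helper1), piece EA2:
the similitudes of `J ⊗ J` are the pure tensors and the pure tensors times the swap. -/

set_option autoImplicit false

namespace Cfsg.Agent.Lib.Helper71.SP8EA2

open Matrix Cfsg.Geo Cfsg.Agent.Lib.Helper71.Asch Cfsg.Agent.Lib.Helper1.SP8EADefs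

variable {F : Type*} [Field F]

/-- the polar form of the determinant on `2 × 2` matrices -/
def pol (X Y : Matrix (Fin 2) (Fin 2) F) : F :=
  X 0 0 * Y 1 1 + X 1 1 * Y 0 0 - X 0 1 * Y 1 0 - X 1 0 * Y 0 1

theorem pol_comm (X Y : Matrix (Fin 2) (Fin 2) F) : pol X Y = pol Y X := by
  unfold pol; ring

theorem pol_self (X : Matrix (Fin 2) (Fin 2) F) : pol X X = 2 * X.det := by
  rw [Matrix.det_fin_two]; unfold pol; ring

theorem pol_vmv (a b c d : Fin 2 → F) :
    pol (vecMulVec a b) (vecMulVec c d) = (a 0 * c 1 - a 1 * c 0) * (b 0 * d 1 - b 1 * d 0) := by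
  simp only [pol, vecMulVec_apply]; ring

theorem det_vmv (a b : Fin 2 → F) : (vecMulVec a b).det = 0 := by
  rw [Matrix.det_fin_two]; simp only [vecMulVec_apply]; ring

/-- every singular `2 × 2` matrix has rank at most one -/
theorem rank_one (X : Matrix (Fin 2) (Fin 2) F) (hX : X.det = 0) :
    ∃ a b : Fin 2 → F, X = vecMulVec a b := by
  rw [Matrix.det_fin_two] at hX
  by_cases h1 : X 0 0 = 0
  · by_cases h2 : X 0 1 = 0
    · refine ⟨![0, 1], ![X 1 0, X 1 1], ?_⟩
      ext i j
      fin_cases i <;> fin_cases j <;> simp [vecMulVec_apply, h1, h2]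
    · have h3 : X 1 0 = 0 := by
        rw [h1] at hX
        have : X 0 1 * X 1 0 = 0 := by linear_combination -hX
        rcases mul_eq_zero.1 this with h | h
        · exact absurd h h2
        · exact h
      refine ⟨![X 0 1, X 1 1], ![0, 1], ?_⟩
      ext i j
      fin_cases i <;> fin_cases j <;> simp [vecMulVec_apply, h1, h3]
  · refine ⟨![1, X 1 0 / X 0 0], ![X 0 0, X 0 1], ?_⟩
    ext i j
    fin_cases i <;> fin_cases j <;> simp [vecMulVec_apply]
    · field_simp
    · field_simp
      linear_combination hX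

/-- expansion of a matrix in the basis `a bᵀ, a fᵀ, e bᵀ, e fᵀ` -/
theorem decomp (a b e f : Fin 2 → F) (M : Matrix (Fin 2) (Fin 2) F) :
    ((a 0 * e 1 - a 1 * e 0) * (b 0 * f 1 - b 1 * f 0)) • M =
      pol M (vecMulVec e f) • vecMulVec a b - pol M (vecMulVec e b) • vecMulVec a f
        - pol M (vecMulVec a f) • vecMulVec e b + pol M (vecMulVec a b) • vecMulVec e f := by
  ext i j
  fin_cases i <;> fin_cases j <;>
    simp only [pol, vecMulVec_apply, Matrix.smul_apply, Matrix.add_apply, Matrix.sub_apply,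
      smul_eq_mul, Fin.zero_eta, Fin.mk_one, Fin.isValue] <;> ring


theorem det_two (a b e f : Fin 2 → F) (α β : F) :
    (α • vecMulVec a f + β • vecMulVec e b).det =
      -(α * β * ((a 0 * e 1 - a 1 * e 0) * (b 0 * f 1 - b 1 * f 0))) := by
  rw [Matrix.det_fin_two]
  simp only [vecMulVec_apply, Matrix.smul_apply, Matrix.add_apply, smul_eq_mul]
  ring

theorem pol_two (a b e f : Fin 2 → F) (α β γ δ : F) :
    pol (α • vecMulVec a f + β • vecMulVec e b) (γ • vecMulVec a f + δ • vecMulVec e b) =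
      -((α * δ + β * γ) * ((a 0 * e 1 - a 1 * e 0) * (b 0 * f 1 - b 1 * f 0))) := by
  simp only [pol, vecMulVec_apply, Matrix.smul_apply, Matrix.add_apply, smul_eq_mul]
  ring

/-- a matrix orthogonal to `a bᵀ` and `e fᵀ` is a combination of `a fᵀ` and `e bᵀ` -/
theorem mid (a b e f : Fin 2 → F) (μ : F) (hμ : μ ≠ 0)
    (hD : (a 0 * e 1 - a 1 * e 0) * (b 0 * f 1 - b 1 * f 0) = μ)
    (Y : Matrix (Fin 2) (Fin 2) F) (h1 : pol (vecMulVec a b) Y = 0)
    (h2 : pol Y (vecMulVec e f) = 0) :
    ∃ α β : F, Y = α • vecMulVec a f + β • vecMulVec e b := by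
  have h := decomp a b e f Y
  rw [hD, h2, pol_comm Y (vecMulVec a b), h1] at h
  generalize pol Y (vecMulVec e b) = p at h
  generalize pol Y (vecMulVec a f) = q at h
  refine ⟨-p / μ, -q / μ, ?_⟩
  have h3 : Y = μ⁻¹ • (μ • Y) := by rw [smul_smul, inv_mul_cancel₀ hμ, one_smul]
  rw [h3, h]
  ext i j
  simp only [Matrix.smul_apply, Matrix.add_apply, Matrix.sub_apply, smul_eq_mul]
  field_simp
  ring

/-- the core: four singular matrices with the polar relations of the matrix units -/
theorem core (X Y Z W : Matrix (Fin 2) (Fin 2) F) (μ : F) (hμ : μ ≠ 0)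
    (hX : X.det = 0) (hY : Y.det = 0) (hZ : Z.det = 0) (hW : W.det = 0)
    (hXY : pol X Y = 0) (hXZ : pol X Z = 0) (hYW : pol Y W = 0) (hZW : pol Z W = 0)
    (hXW : pol X W = μ) (hYZ : pol Y Z = -μ) :
    ∃ u0 u1 v0 v1 : Fin 2 → F, u0 0 * u1 1 - u0 1 * u1 0 ≠ 0 ∧ v0 0 * v1 1 - v0 1 * v1 0 ≠ 0 ∧
      X = vecMulVec u0 v0 ∧ W = vecMulVec u1 v1 ∧
      ((Y = vecMulVec u0 v1 ∧ Z = vecMulVec u1 v0) ∨ (Y = vecMulVec u1 v0 ∧ Z = vecMulVec u0 v1)) := by
  obtain ⟨a, b, rfl⟩ := rank_one X hX
  obtain ⟨e, f, rfl⟩ := rank_one W hW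
  have hD : (a 0 * e 1 - a 1 * e 0) * (b 0 * f 1 - b 1 * f 0) = μ := by rw [← pol_vmv]; exact hXW
  have hD1 : a 0 * e 1 - a 1 * e 0 ≠ 0 := by
    intro h; rw [h, zero_mul] at hD; exact hμ hD.symm
  have hD2 : b 0 * f 1 - b 1 * f 0 ≠ 0 := by
    intro h; rw [h, mul_zero] at hD; exact hμ hD.symm
  obtain ⟨α, β, rfl⟩ := mid a b e f μ hμ hD Y hXY hYW
  obtain ⟨γ, δ, rfl⟩ := mid a b e f μ hμ hD Z hXZ hZW
  rw [det_two, hD] at hY hZ
  rw [pol_two, hD] at hYZ
  have hαβ : α * β = 0 := by
    have : α * β * μ = 0 := by linear_combination -hY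
    rcases mul_eq_zero.1 this with h | h
    · exact h
    · exact absurd h hμ
  have hγδ : γ * δ = 0 := by
    have : γ * δ * μ = 0 := by linear_combination -hZ
    rcases mul_eq_zero.1 this with h | h
    · exact h
    · exact absurd h hμ
  have hsum : α * δ + β * γ = 1 := by
    have : (α * δ + β * γ - 1) * μ = 0 := by linear_combination -hYZ
    rcases mul_eq_zero.1 this with h | h
    · linear_combination h
    · exact absurd h hμ
  rcases mul_eq_zero.1 hαβ with hα | hβ
  · -- α = 0: β γ = 1, δ = 0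
    subst hα
    have hβγ : β * γ = 1 := by linear_combination hsum
    have hβ : β ≠ 0 := by rintro rfl; simp at hβγ
    have hγ : γ ≠ 0 := by rintro rfl; simp at hβγ
    have hδ : δ = 0 := by
      rcases mul_eq_zero.1 hγδ with h | h
      · exact absurd h hγ
      · exact h
    subst hδ
    refine ⟨a, β • e, b, γ • f, ?_, ?_, rfl, ?_, Or.inr ⟨?_, ?_⟩⟩
    · simp only [Pi.smul_apply, smul_eq_mul]
      intro h
      apply hD1
      have : β * (a 0 * e 1 - a 1 * e 0) = 0 := by linear_combination h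
      rcases mul_eq_zero.1 this with h | h
      · exact absurd h hβ
      · exact h
    · simp only [Pi.smul_apply, smul_eq_mul]
      intro h
      apply hD2
      have : γ * (b 0 * f 1 - b 1 * f 0) = 0 := by linear_combination h
      rcases mul_eq_zero.1 this with h | h
      · exact absurd h hγ
      · exact h
    · ext i j
      simp only [vecMulVec_apply, Pi.smul_apply, smul_eq_mul]
      linear_combination (-(e i * f j)) * hβγ
    · ext i j
      simp only [vecMulVec_apply, Pi.smul_apply, smul_eq_mul, Matrix.smul_apply, Matrix.add_apply]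
      ring
    · ext i j
      simp only [vecMulVec_apply, Pi.smul_apply, smul_eq_mul, Matrix.smul_apply, Matrix.add_apply]
      ring
  · -- β = 0: α δ = 1, γ = 0
    subst hβ
    have hαδ : α * δ = 1 := by linear_combination hsum
    have hα : α ≠ 0 := by rintro rfl; simp at hαδ
    have hδ : δ ≠ 0 := by rintro rfl; simp at hαδ
    have hγ : γ = 0 := by
      rcases mul_eq_zero.1 hγδ with h | h
      · exact h
      · exact absurd h hδ
    subst hγ
    refine ⟨a, δ • e, b, α • f, ?_, ?_, rfl, ?_, Or.inl ⟨?_, ?_⟩⟩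
    · simp only [Pi.smul_apply, smul_eq_mul]
      intro h
      apply hD1
      have : δ * (a 0 * e 1 - a 1 * e 0) = 0 := by linear_combination h
      rcases mul_eq_zero.1 this with h | h
      · exact absurd h hδ
      · exact h
    · simp only [Pi.smul_apply, smul_eq_mul]
      intro h
      apply hD2
      have : α * (b 0 * f 1 - b 1 * f 0) = 0 := by linear_combination h
      rcases mul_eq_zero.1 this with h | h
      · exact absurd h hα
      · exact h
    · ext i j
      simp only [vecMulVec_apply, Pi.smul_apply, smul_eq_mul]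
      linear_combination (-(e i * f j)) * hαδ
    · ext i j
      simp only [vecMulVec_apply, Pi.smul_apply, smul_eq_mul, Matrix.smul_apply, Matrix.add_apply]
      ring
    · ext i j
      simp only [vecMulVec_apply, Pi.smul_apply, smul_eq_mul, Matrix.smul_apply, Matrix.add_apply]
      ring


theorem sum_f22 (g : (Fin 2 → Fin 2) → F) :
    ∑ x, g x = g ![0, 0] + g ![0, 1] + g ![1, 0] + g ![1, 1] := by
  rw [← (finTwoArrowEquiv (Fin 2)).symm.sum_comp, Fintype.sum_prod_type]
  simp only [Fin.sum_univ_two, finTwoArrowEquiv_symm_apply]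
  ring

theorem eq_f22 (x : Fin 2 → Fin 2) : x = ![x 0, x 1] := by
  ext i
  fin_cases i <;> rfl

/-- the column `y` of `B`, as a `2 × 2` matrix -/
def col (B : Matrix (Fin 2 → Fin 2) (Fin 2 → Fin 2) F) (y : Fin 2 → Fin 2) :
    Matrix (Fin 2) (Fin 2) F :=
  Matrix.of fun a b => B ![a, b] y

theorem K22_apply (a b c d : Fin 2) :
    (K22 : Matrix (Fin 2 → Fin 2) (Fin 2 → Fin 2) F) ![a, b] ![c, d] = J2 a c * J2 b d := by
  simp [K22, pt_apply, Fin.prod_univ_two]

theorem gram_col (B : Matrix (Fin 2 → Fin 2) (Fin 2 → Fin 2) F) (y y' : Fin 2 → Fin 2) :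
    (Bᵀ * (K22 : Matrix (Fin 2 → Fin 2) (Fin 2 → Fin 2) F) * B) y y' =
      pol (col B y) (col B y') := by
  rw [Matrix.mul_apply, sum_f22]
  simp only [Matrix.mul_apply, sum_f22, Matrix.transpose_apply, K22_apply]
  simp only [J2, pol, col, Matrix.of_apply, Matrix.cons_val', Matrix.cons_val_zero,
    Matrix.cons_val_one, Matrix.cons_val_fin_one]
  ring


theorem swap_apply (U V : Matrix (Fin 2) (Fin 2) F) (x y : Fin 2 → Fin 2) :
    (pt ![U, V] * (swapM : Matrix (Fin 2 → Fin 2) (Fin 2 → Fin 2) F)) x y =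
      U (x 0) (y 1) * V (x 1) (y 0) := by
  rw [Matrix.mul_apply, Finset.sum_eq_single (y ∘ Equiv.swap (0 : Fin 2) 1)]
  · have h : y = (y ∘ Equiv.swap (0 : Fin 2) 1) ∘ Equiv.swap (0 : Fin 2) 1 := by
      ext i
      simp [Function.comp]
    rw [swapM, Matrix.of_apply, if_pos h, mul_one, pt_apply, Fin.prod_univ_two]
    simp
  · intro z _ hz
    have h : ¬ y = z ∘ Equiv.swap (0 : Fin 2) 1 := by
      rintro rfl
      apply hz
      ext i
      simp [Function.comp]
    rw [swapM, Matrix.of_apply, if_neg h, mul_zero]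
  · intro h
    exact absurd (Finset.mem_univ _) h

/-- EA2: the similitudes of `J ⊗ J` are the pure tensors and the pure tensors times the swap. -/
theorem EA2 (h2ne : (2 : F) ≠ 0) (B : Matrix (Fin 2 → Fin 2) (Fin 2 → Fin 2) F) (μ : F) (hμ : μ ≠ 0)
    (hB : Bᵀ * K22 * B = μ • (K22 : Matrix (Fin 2 → Fin 2) (Fin 2 → Fin 2) F)) :
    ∃ U V : Matrix (Fin 2) (Fin 2) F, U.det ≠ 0 ∧ V.det ≠ 0 ∧
      (B = pt ![U, V] ∨ B = pt ![U, V] * swapM) := by
  have hcol : ∀ a b c d : Fin 2, pol (col B ![a, b]) (col B ![c, d]) = μ * (J2 a c * J2 b d) := by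
    intro a b c d
    rw [← gram_col, hB, Matrix.smul_apply, K22_apply, smul_eq_mul]
  have hdet : ∀ a b : Fin 2, (col B ![a, b]).det = 0 := by
    intro a b
    have h1 := hcol a b a b
    rw [pol_self] at h1
    have h3 : (J2 a a : F) = 0 := by fin_cases a <;> simp [J2]
    rw [h3, zero_mul, mul_zero] at h1
    rcases mul_eq_zero.1 h1 with h | h
    · exact absurd h h2ne
    · exact h
  obtain ⟨u0, u1, v0, v1, hU, hV, hX, hW, hYZ⟩ := core (col B ![0, 0]) (col B ![0, 1])
    (col B ![1, 0]) (col B ![1, 1]) μ hμ (hdet 0 0) (hdet 0 1) (hdet 1 0) (hdet 1 1)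
    (by rw [hcol]; simp [J2]) (by rw [hcol]; simp [J2]) (by rw [hcol]; simp [J2])
    (by rw [hcol]; simp [J2]) (by rw [hcol]; simp [J2]) (by rw [hcol]; simp [J2])
  refine ⟨Matrix.of fun a c => if c = 0 then u0 a else u1 a,
    Matrix.of fun a c => if c = 0 then v0 a else v1 a, ?_, ?_, ?_⟩
  · rw [Matrix.det_fin_two]
    simp only [Matrix.of_apply]
    intro h
    apply hU
    have h' : u0 0 * u1 1 - u1 0 * u0 1 = 0 := by simpa using h
    linear_combination h'
  · rw [Matrix.det_fin_two]
    simp only [Matrix.of_apply]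
    intro h
    apply hV
    have h' : v0 0 * v1 1 - v1 0 * v0 1 = 0 := by simpa using h
    linear_combination h'
  · have e00 : ∀ a b : Fin 2, B ![a, b] ![0, 0] = u0 a * v0 b := fun a b => by
      have := congrFun (congrFun hX a) b
      simpa [col, vecMulVec_apply] using this
    have e11 : ∀ a b : Fin 2, B ![a, b] ![1, 1] = u1 a * v1 b := fun a b => by
      have := congrFun (congrFun hW a) b
      simpa [col, vecMulVec_apply] using this
    rcases hYZ with ⟨hY, hZ⟩ | ⟨hY, hZ⟩
    · left
      have e01 : ∀ a b : Fin 2, B ![a, b] ![0, 1] = u0 a * v1 b := fun a b => by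
        have := congrFun (congrFun hY a) b
        simpa [col, vecMulVec_apply] using this
      have e10 : ∀ a b : Fin 2, B ![a, b] ![1, 0] = u1 a * v0 b := fun a b => by
        have := congrFun (congrFun hZ a) b
        simpa [col, vecMulVec_apply] using this
      ext x y
      rw [pt_apply, Fin.prod_univ_two, eq_f22 x, eq_f22 y]
      generalize x 0 = a
      generalize x 1 = b
      generalize y 0 = c
      generalize y 1 = d
      fin_cases c <;> fin_cases d <;> simp [e00, e01, e10, e11]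
    · right
      have e01 : ∀ a b : Fin 2, B ![a, b] ![0, 1] = u1 a * v0 b := fun a b => by
        have := congrFun (congrFun hY a) b
        simpa [col, vecMulVec_apply] using this
      have e10 : ∀ a b : Fin 2, B ![a, b] ![1, 0] = u0 a * v1 b := fun a b => by
        have := congrFun (congrFun hZ a) b
        simpa [col, vecMulVec_apply] using this
      ext x y
      rw [swap_apply, eq_f22 x, eq_f22 y]
      generalize x 0 = a
      generalize x 1 = b
      generalize y 0 = c
      generalize y 1 = d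
      fin_cases c <;> fin_cases d <;> simp [e00, e01, e10, e11]

end Cfsg.Agent.Lib.Helper71.SP8EA2
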