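import Mathlib
import Cfsg.Prelude.Def_GeometricClasses
import Cfsg.Prelude.Def_LieClassical
import Cfsg.Agent.Lib.Helper71.Asch0
import Cfsg.Agent.Lib.Helper86.ASB8Main
import Cfsg.Agent.Lib.Helper57.ASCOREA
import Cfsg.Agent.Lib.Helper82.ASCOREB
import Cfsg.Agent.Lib.Helper71.Asch8

/-! Project SPG (helper71), sub-project TIF, piece T1a: the tensor decomposition with rectangular
base change matrices in the tensor-induced branch (first half of `Helper86.ASB8Main.B8_of`, as in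
`Helper28.SPPB8D`). -/

set_option autoImplicit false

namespace Cfsg.Agent.Lib.Helper71.TIFT1a

open Matrix Cfsg.Geo Cfsg.Agent.Lib.Helper86.ASB8
open Cfsg.Agent.Lib.Helper71.Asch (Nrm InCls tmat)

variable {n : ℕ} {F : Type*} [Field F] [Fintype F]

/-- T1a: the tensor decomposition with rectangular base change matrices. -/
theorem T1a (hn : 3 ≤ n) (H L : Subgroup (GL (Fin n) F))
    (hLa : ActsAbsolutelyIrreducibly (matrixSet L))
    (k : ℕ) (Ps : Fin k → Subgroup (GL (Fin n) F)) (hk : 2 ≤ k)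
    (hns : ∀ i, ¬ Ps i ≤ scalars (Fin n) F)
    (hcomm : ∀ i j, i ≠ j → ∀ x ∈ Ps i, ∀ y ∈ Ps j, x * y = y * x)
    (hsup : L = ⨆ i, Ps i)
    (hperm : ∀ h ∈ H, ∃ σ : Equiv.Perm (Fin k), ∀ i,
      (Ps i).map (MulAut.conj h).toMonoidHom = Ps (σ i))
    (htrans : ∀ i j, ∃ h ∈ H, (Ps i).map (MulAut.conj h).toMonoidHom = Ps j) :
    ∃ (m : ℕ) (P : Matrix (Fin n) (Fin k → Fin m) F) (Q : Matrix (Fin k → Fin m) (Fin n) F),
      2 ≤ m ∧ P * Q = 1 ∧ Q * P = 1 ∧
      ∀ i (X : Matrix (Fin n) (Fin n) F), X ∈ Submodule.span F (matrixSet (Ps i)) ↔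
        ∃ A : Matrix (Fin m) (Fin m) F, X = P * Cfsg.Agent.Lib.Helper71.Asch.iota i A * Q := by
  have hcoreA : ∀ G N : Subgroup (GL (Fin n) F), ActsIrreducibly (matrixSet G) → N ≤ G → Nrm G N →
      (∃ (t m : ℕ) (D : Fin t → Submodule F (Fin n → F)), IsMDecomposition m D ∧
        G ≤ decompositionStabilizer D ∧
        (∀ i, ∀ X : Matrix (Fin n) (Fin n) F, (∀ x ∈ N, X * x.1 = x.1 * X) →
          (D i).map (Matrix.toLin' X) ≤ D i) ∧
        (∀ i, ∀ x ∈ N, (D i).map (Matrix.toLin' x.1) ≤ D i)) ∨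
      (∃ (d k : ℕ) (e : Fin n ≃ Fin d × Fin k) (P : GL (Fin n) F) (R : Subgroup (GL (Fin d) F)),
        ActsIrreducibly (matrixSet R) ∧ (∀ x ∈ N, ∃ y ∈ R, x.1 = tmat e P y.1 1) ∧
        (∀ y ∈ R, ∃ x ∈ N, x.1 = tmat e P y.1 1)) :=
    fun G N hG hNG hN => Cfsg.Agent.Lib.Helper57.ASCOREA.coreA (by omega) G N hG hNG hN
  have hcoreB : ∀ G N : Subgroup (GL (Fin n) F), N ≤ G → Nrm G N → ∀ {d k : ℕ}
      (e : Fin n ≃ Fin d × Fin k) (P : GL (Fin n) F) (R : Subgroup (GL (Fin d) F)),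
      ActsIrreducibly (matrixSet R) → (∀ x ∈ N, ∃ y ∈ R, x.1 = tmat e P y.1 1) →
      (∀ y ∈ R, ∃ x ∈ N, x.1 = tmat e P y.1 1) → ¬ ActsAbsolutelyIrreducibly (matrixSet R) →
      ∃ (r : ℕ) (K : Subalgebra F (Matrix (Fin n) (Fin n) F)), r.Prime ∧ IsFieldSubalgebra r K ∧
        G ≤ subalgebraNormalizer K ∧
        (∀ z ∈ K, (∀ x ∈ N, z * x.1 = x.1 * z) ∧
          ∀ X : Matrix (Fin n) (Fin n) F, (∀ x ∈ N, X * x.1 = x.1 * X) → z * X = X * z) :=
    fun G N hNG hN {_ _} e P R hR h1 h2 hna =>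
      Cfsg.Agent.Lib.Helper82.ASCOREB.coreB (by omega) G N hNG hN e P R hR h1 h2 hna
  classical
  have hn1 : 1 ≤ n := by omega
  -- matrix units for each `i`
  have hU : ∀ i, ∃ (d : ℕ) (E : Fin d → Fin d → Matrix (Fin n) (Fin n) F), IsMU E ∧
      ∀ X : Matrix (Fin n) (Fin n) F, X ∈ Submodule.span F (matrixSet (Ps i)) ↔
        ∃ A : Matrix (Fin d) (Fin d) F, X = ∑ a, ∑ b, A a b • E a b := by
    intro i
    obtain ⟨d, k', e, P, R, hR, h1, h2⟩ := Cfsg.Agent.Lib.Helper86.ASB8HOM.hom hn1 L hLa k Ps hcomm hsup hcoreA hcoreB i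
    obtain ⟨E, hE, hs⟩ := Cfsg.Agent.Lib.Helper82.ASB8UNITS.units e P R (Ps i) (Cfsg.Agent.Lib.Helper83.ASB8BURN.burnside R hR) h1 h2
    exact ⟨d, E, hE, hs⟩
  -- the common size `m`
  obtain ⟨m, E₀, hE₀, hs₀⟩ := hU ⟨0, by omega⟩
  have hU' : ∀ i, ∃ (E : Fin m → Fin m → Matrix (Fin n) (Fin n) F), IsMU E ∧
      ∀ X : Matrix (Fin n) (Fin n) F, X ∈ Submodule.span F (matrixSet (Ps i)) ↔
        ∃ A : Matrix (Fin m) (Fin m) F, X = ∑ a, ∑ b, A a b • E a b := by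
    intro i
    obtain ⟨d, E, hE, hs⟩ := hU i
    obtain ⟨h, -, hh⟩ := htrans ⟨0, by omega⟩ i
    have hd : m = d := Cfsg.Agent.Lib.Helper59.ASB8DIM.dim_eq hn1 E₀ E hE₀ hE (Ps ⟨0, by omega⟩) (Ps i) h hh hs₀ hs
    subst hd
    exact ⟨E, hE, hs⟩
  choose E hE hs using hU'
  have hm2 : 2 ≤ m :=
    Cfsg.Agent.Lib.Helper59.ASB8SCAL.two_le_of_not_scalar hn1 (E ⟨0, by omega⟩) (hE _) (Ps ⟨0, by omega⟩) (hs _) (hns _)
  have hEmem : ∀ i a b, E i a b ∈ Submodule.span F (matrixSet (Ps i)) := by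
    intro i a b
    rw [hs i]
    refine ⟨Matrix.single a b 1, ?_⟩
    rw [Finset.sum_eq_single a, Finset.sum_eq_single b]
    · simp
    · intro b' _ hb'
      simp [hb'.symm]
    · simp
    · intro a' _ ha'
      apply Finset.sum_eq_zero
      intro b' _
      simp [ha'.symm]
    · simp
  have hspan_comm : ∀ i j, i ≠ j → ∀ X ∈ Submodule.span F (matrixSet (Ps i)),
      ∀ Y ∈ Submodule.span F (matrixSet (Ps j)), X * Y = Y * X := by
    intro i j hij X hX Y hY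
    induction hX using Submodule.span_induction with
    | mem X hX =>
      obtain ⟨x, hx, rfl⟩ := hX
      induction hY using Submodule.span_induction with
      | mem Y hY =>
        obtain ⟨y, hy, rfl⟩ := hY
        have := hcomm i j hij x hx y hy
        rw [← Units.val_mul, ← Units.val_mul, this]
      | zero => simp
      | add Y₁ Y₂ _ _ h₁ h₂ => rw [mul_add, add_mul, h₁, h₂]
      | smul c Y₁ _ h₁ => rw [Matrix.mul_smul, Matrix.smul_mul, h₁]
    | zero => simp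
    | add X₁ X₂ _ _ h₁ h₂ => rw [mul_add, add_mul, h₁, h₂]
    | smul c X₁ _ h₁ => rw [Matrix.mul_smul, Matrix.smul_mul, h₁]
  have hEcomm : ∀ i j, i ≠ j → ∀ a b c d, E i a b * E j c d = E j c d * E i a b :=
    fun i j hij a b c d => hspan_comm i j hij _ (hEmem i a b) _ (hEmem j c d)
  obtain ⟨B, hB, hBE⟩ := Cfsg.Agent.Lib.Helper82.ASB8BIG.big_units E hE hEcomm
  have hBcomm : ∀ M : Matrix (Fin n) (Fin n) F, (∀ x y, M * B x y = B x y * M) →
      ∃ c : F, M = c • (1 : Matrix (Fin n) (Fin n) F) := by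
    intro M hM
    apply hLa.2
    have h1 : ∀ i a b, M * E i a b = E i a b * M := by
      intro i a b
      rw [hBE i a b, Finset.mul_sum, Finset.sum_mul]
      apply Finset.sum_congr rfl
      intro x _
      split_ifs
      · exact hM _ _
      · simp
    have h2 : ∀ i, ∀ X ∈ Submodule.span F (matrixSet (Ps i)), M * X = X * M := by
      intro i X hX
      obtain ⟨A, rfl⟩ := (hs i X).mp hX
      simp only [Finset.mul_sum, Finset.sum_mul, Matrix.mul_smul, Matrix.smul_mul, h1]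
    rintro s ⟨x, hx, rfl⟩
    have hx' : x ∈ ⨆ i, Ps i := hsup ▸ hx
    refine Subgroup.iSup_induction Ps (C := fun x => M * x.1 = x.1 * M) hx' ?_ ?_ ?_
    · intro i y hy
      exact h2 i _ (Submodule.subset_span ⟨y, hy, rfl⟩)
    · simp
    · intro y z hy hz
      rw [Units.val_mul, ← mul_assoc, hy, mul_assoc, hz, mul_assoc]
  obtain ⟨P, Q, hPQ, hQP, hBPQ⟩ := Cfsg.Agent.Lib.Helper34.ASB8MU.mu_conj hn1 B hB hBcomm
  have hEP : ∀ i a b, E i a b = P * iota i (Matrix.single a b (1 : F)) * Q := by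
    intro i a b
    rw [hBE i a b, Cfsg.Agent.Lib.Helper86.ASB8IOTA.iota_single, Matrix.mul_sum, Matrix.sum_mul]
    apply Finset.sum_congr rfl
    intro x _
    split_ifs
    · exact hBPQ _ _
    · simp
  have hsP : ∀ i (X : Matrix (Fin n) (Fin n) F), X ∈ Submodule.span F (matrixSet (Ps i)) ↔
      ∃ A : Matrix (Fin m) (Fin m) F, X = P * iota i A * Q := by
    intro i X
    rw [hs i]
    have key : ∀ A : Matrix (Fin m) (Fin m) F,
        ∑ a, ∑ b, A a b • E i a b = P * iota i A * Q := by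
      intro A
      rw [Cfsg.Agent.Lib.Helper86.ASB8IOTA.iota_eq_sum i A]
      simp only [Matrix.mul_sum, Matrix.sum_mul, Matrix.mul_smul, Matrix.smul_mul, hEP]
    constructor
    · rintro ⟨A, rfl⟩
      exact ⟨A, key A⟩
    · rintro ⟨A, rfl⟩
      exact ⟨A, (key A).symm⟩
  exact ⟨m, P, Q, hm2, hPQ, hQP, hsP⟩

end Cfsg.Agent.Lib.Helper71.TIFT1a
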